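import Groth.Agent.ConsFiniteLib.Dev
import Groth.Agent.CurveMuLib.Open
import Groth.Agent.S0088
import Groth.Agent.S0642
import Groth.Agent.NormCurveComplLib.Basic
import Groth.Agent.CurveH0Lib.Smooth
import Groth.Agent.MiscFlat6.NormalLowDim
import Groth.Agent.MultiPtLib.Branch
import Groth.Agent.SkySumLib.Cohom
import Mathlib.GroupTheory.FiniteAbelian.Basic

/-!
# Finiteness of the cohomology of finite constant sheaves on normal curves, prime to the characteristic
-/

set_option autoImplicit false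
set_option linter.style.haveILetI false
set_option linter.unusedSectionVars false
set_option backward.isDefEq.respectTransparency false
set_option backward.isDefEq.respectTransparency.types false
set_option synthInstance.maxHeartbeats 400000
set_option maxHeartbeats 1000000

universe u

open CategoryTheory CategoryTheory.Limits AlgebraicGeometry Opposite CategoryTheory.Abelian TopologicalSpace
open Groth.Agent Groth.Agent.EtShLib

noncomputable section

namespace ConsFiniteLib

theorem finite_H_iso {Z : Scheme.{u}} {F G : EtCoh.Ab Z} (e : F ≅ G) (q : ℕ) (h : Finite (EtCoh.H Z F q)) :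
    Finite (EtCoh.H Z G q) := by
  haveI : Finite ((EtCoh.HF Z q).obj F) := h
  exact Finite.of_equiv _ ((EtCoh.HF Z q).mapIso e).addCommGroupIsoToAddEquiv.toEquiv

theorem finite_H0_const (Z : Scheme.{u}) [IrreducibleSpace Z] (M : Type) [AddCommGroup M] [Finite M] :
    Finite (EtCoh.H Z (EtCoh.const Z M) 0) := by
  haveI : Finite (ToType ((EtCoh.const Z M).obj.obj (op (EtCoh.top Z)))) := by
    let hT := EtCore.topIsTerminal Z
    let A := AddCommGrpCat.of (ULift.{u + 1} M)
    have h := ConstUnitLib.isCst_const (X := Z) A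
    obtain ⟨x₀⟩ : Nonempty (EtCoh.top Z).left := ⟨genericPoint Z⟩
    haveI : PreconnectedSpace (EtCoh.top Z).left := inferInstanceAs (PreconnectedSpace Z)
    haveI : Finite (ToType A) := inferInstanceAs (Finite (ULift.{u + 1} M))
    haveI : Finite (ToType (((Functor.const Z.Etaleᵒᵖ).obj A).obj (op (EtCoh.top Z)))) :=
      inferInstanceAs (Finite (ULift.{u + 1} M))
    refine Finite.of_injective (fun s => ConstUnitLib.val (hT := hT) h s x₀) fun s t e => ?_
    refine ConstUnitLib.val_ext (hT := hT) h fun y => ?_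
    rw [(ConstUnitLib.isLocallyConstant_val (hT := hT) h s).apply_eq_of_preconnectedSpace y x₀,
      (ConstUnitLib.isLocallyConstant_val (hT := hT) h t).apply_eq_of_preconnectedSpace y x₀]
    exact e
  exact Finite.of_equiv _ (Sheaf.H.equiv₀ (EtCoh.const Z M) (EtCore.topIsTerminal Z)).symm.toEquiv

/-- Finite coefficients reduce to cyclic ones. -/
theorem finite_const_of_cyclic {Z : Scheme.{u}} {n : ℕ} (hn : 0 < n) (q : ℕ)
    (h : ∀ m : ℕ, m ∣ n → Finite (EtCoh.H Z (EtCoh.const Z (ZMod m)) q))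
    (M : Type) [AddCommGroup M] [Finite M] (hM : ∀ x : M, n • x = 0) : Finite (EtCoh.H Z (EtCoh.const Z M) q) := by
  classical
  obtain ⟨ι, _, m, -, ⟨e⟩⟩ := AddCommGroup.equiv_directSum_zmod_of_finite' M
  let π : ∀ i, M →+ ZMod (m i) := fun i =>
    ((DFinsupp.evalAddMonoidHom (β := fun i => ZMod (m i)) i)).comp e.toAddMonoidHom
  let σ : ∀ i, ZMod (m i) →+ M := fun i =>
    e.symm.toAddMonoidHom.comp (DirectSum.of (fun i => ZMod (m i)) i)
  have hsum : ∀ x : M, ∑ i, σ i (π i x) = x := fun x => by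
    refine e.injective ((map_sum e _ _).trans ?_)
    conv_rhs => rw [← DirectSum.sum_univ_of (e x)]
    exact Finset.sum_congr rfl fun i _ => e.apply_symm_apply _
  have hdvd : ∀ i, m i ∣ n := fun i => by
    have h1 : π i (σ i 1) = 1 := by
      show (e (e.symm (DirectSum.of (fun i => ZMod (m i)) i 1))) i = 1
      rw [e.apply_symm_apply, DirectSum.of_eq_same]
    have h2 := congrArg (π i) (hM (σ i 1))
    rw [map_nsmul, h1, map_zero, nsmul_one] at h2
    exact (ZMod.natCast_eq_zero_iff _ _).1 h2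
  let T := constantSheaf Z.smallEtaleTopology AddCommGrpCat.{u + 1}
  haveI : PreservesFiniteLimits T := by
    dsimp only [T, constantSheaf]
    infer_instance
  haveI : T.Additive := Functor.additive_of_preserves_binary_products T
  let up : ∀ {A B : Type} [AddCommGroup A] [AddCommGroup B], (A →+ B) →
      (AddCommGrpCat.of (ULift.{u + 1} A) ⟶ AddCommGrpCat.of (ULift.{u + 1} B)) := fun f =>
    AddCommGrpCat.ofHom (AddMonoidHom.mk' (fun x => ULift.up (f x.down)) fun x y => ULift.ext _ _ (map_add f _ _))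
  haveI := fun i => h (m i) (hdvd i)
  refine Finite.of_injective (fun (x : EtCoh.H Z (EtCoh.const Z M) q) (i : ι) =>
    (x.comp (Ext.mk₀ (T.map (up (π i)))) (add_zero q) : EtCoh.H Z (EtCoh.const Z (ZMod (m i))) q)) fun x y hxy => ?_
  have hid : ∑ i, up (π i) ≫ up (σ i) = 𝟙 (AddCommGrpCat.of (ULift.{u + 1} M)) := by
    refine ConcreteCategory.hom_ext _ _ fun z => ?_
    have : ∀ s : Finset ι, ((∑ i ∈ s, up (π i) ≫ up (σ i)) z).down = ∑ i ∈ s, σ i (π i z.down) := fun s => by
      induction s using Finset.induction with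
      | empty => rfl
      | insert a s ha ih =>
        rw [Finset.sum_insert ha, Finset.sum_insert ha, ← ih]
        rfl
    exact ULift.ext _ _ ((this _).trans (hsum z.down))
  have key : ∀ z : EtCoh.H Z (EtCoh.const Z M) q, z = ∑ i, (z.comp (Ext.mk₀ (T.map (up (π i)))) (add_zero q)).comp
      (Ext.mk₀ (T.map (up (σ i)))) (add_zero q) := fun z => by
    refine Eq.trans ?_ (Finset.sum_congr rfl fun i _ => (Ext.comp_assoc_of_second_deg_zero z _ _ _).symm)
    simp only [Ext.mk₀_comp_mk₀, ← Functor.map_comp]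
    rw [← Ext.comp_sum, ← Ext.mk₀_sum, ← Functor.map_sum, hid, CategoryTheory.Functor.map_id, Ext.comp_mk₀_id]
  rw [key x, key y]
  exact Finset.sum_congr rfl fun i _ =>
    congrArg (fun t => Ext.comp t (Ext.mk₀ (T.map (up (σ i)))) (add_zero q)) (congrFun hxy i)

variable (k : Type u) [Field k] [IsAlgClosed k]

theorem finite_const_curve {Z : Scheme.{u}} [IsIntegral Z] (g : Z ⟶ Spec (CommRingCat.of k)) [IsSeparated g]
    [LocallyOfFiniteType g] [QuasiCompact g] (hnor : Pi1.IsNormalScheme Z) (hdim : topologicalKrullDim Z = 1)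
    (m : ℕ) (hm : (m : k) ≠ 0) (q : ℕ) (hq : 1 ≤ q) : Finite (EtCoh.H Z (EtCoh.const Z (ZMod m)) q) := by
  have hm0 : 0 < m := Nat.pos_of_ne_zero fun e => hm (by rw [e, Nat.cast_zero])
  haveI : NeZero m := ⟨hm0.ne'⟩
  obtain ⟨eZ⟩ := CurveH2Lib.mu_iso_const k g m hm
  by_cases hq2 : 2 < q
  · haveI := Groth.Agent.S0203.result k Z g hdim.le _ (CurveH2Lib.isTorsion_mu Z hm0) q hq2
    exact finite_H_iso eZ q Finite.of_subsingleton
  letI : Z.Over (Spec (CommRingCat.of k)) := ⟨g⟩
  haveI : LocallyOfFiniteType (Z ↘ Spec (CommRingCat.of k)) := ‹LocallyOfFiniteType g›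
  haveI : QuasiCompact (Z ↘ Spec (CommRingCat.of k)) := ‹QuasiCompact g›
  haveI : IsSeparated (Z ↘ Spec (CommRingCat.of k)) := ‹IsSeparated g›
  have hst : ∀ x : Z, IsClosed ({x} : Set Z) → ringKrullDim (Z.presheaf.stalk x) = 1 := fun x hx =>
    MultiPtLib.ringKrullDim_stalk_closed hdim.le (fun T hT => by
      rw [irreducibleComponents_eq_singleton] at hT
      rw [Set.mem_singleton_iff.1 hT]
      exact ((Homeomorph.Set.univ Z).isHomeomorph.topologicalKrullDim_eq _).trans hdim) hx
  obtain ⟨Xc, sc, j, hj, hdense, hjs, hP, hnc, -⟩ := NormCurveComplLib.exists_completion (k := k) Z hst hnor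
  letI : Xc.Over (Spec (CommRingCat.of k)) := ⟨sc⟩
  haveI := hj
  haveI : IsProper (Xc ↘ Spec (CommRingCat.of k)) := hP
  haveI : IrreducibleSpace Xc := by
    haveI : PreirreducibleSpace Xc := by
      refine ⟨?_⟩
      have h1 : IsPreirreducible (Set.range j.base) := by
        rw [← Set.image_univ]
        exact (IrreducibleSpace.isIrreducible_univ Z).2.image _ j.continuous.continuousOn
      rw [← hdense.closure_eq]
      exact h1.closure
    exact { toNonempty := ⟨j.base (genericPoint Z)⟩ }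
  haveI : IsReduced Xc := by
    haveI : ∀ x : Xc, _root_.IsReduced (Xc.presheaf.stalk x) := fun x => by
      haveI := (hnc x).1
      infer_instance
    exact isReduced_of_isReduced_stalk Xc
  haveI : IsIntegral Xc := isIntegral_of_irreducibleSpace_of_isReduced Xc
  let U : Xc.Opens := j.opensRange
  have hUne : (U : Set Xc).Nonempty := ⟨_, genericPoint Z, rfl⟩
  have hdimc : topologicalKrullDim Xc = 1 := by
    rw [← VarDimLib.dim_open_eq (Xc ↘ Spec (CommRingCat.of k)) U hUne, ← hdim]
    exact ((j.isOpenEmbedding.isEmbedding.toHomeomorph).isHomeomorph.topologicalKrullDim_eq _).symm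
  haveI : IsLocallyNoetherian Xc := LocallyOfFiniteType.isLocallyNoetherian (Xc ↘ Spec (CommRingCat.of k))
  haveI : Smooth (Xc ↘ Spec (CommRingCat.of k)) := CurveH0Lib.smooth_of_regular k _ fun x => by
    haveI := (hnc x).1
    haveI := (hnc x).2
    exact MiscFlat6.isRegularLocalRing_of_normal_dim_le_one _ ((MiscFlat6.ringKrullDim_stalk_le Xc x).trans hdimc.le)
  obtain ⟨eX⟩ := CurveH2Lib.mu_iso_const k (Xc ↘ Spec (CommRingCat.of k)) m hm
  by_cases hU : (U : Set Xc) = Set.univ
  · haveI : Surjective j := ⟨Set.range_eq_univ.1 hU⟩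
    haveI : IsIso j := (isIso_iff_isOpenImmersion_and_epi_base j).2 ⟨inferInstance,
      (TopCat.epi_iff_surjective _).2 j.surjective⟩
    haveI : Finite (EtCoh.H Xc (EtCoh.mu Xc m) q) := by
      interval_cases q
      · obtain ⟨e⟩ := JacTorsLib.nonempty_H1_mu k Xc hdimc m hm
        exact Finite.of_equiv _ e.toEquiv
      · obtain ⟨e⟩ := CurveH2Lib.nonempty_H2_mu k Xc hdimc m hm
        exact Finite.of_equiv _ e.toEquiv.symm
    haveI : Finite (EtCoh.H Xc (EtCoh.const Xc (ZMod m)) q) := finite_H_iso eX q ‹_›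
    haveI : Finite (EtCoh.H Z ((EtCoh.pull j).obj (EtCoh.const Xc (ZMod m))) q) :=
      Finite.of_surjective _ (Groth.Agent.S0642.result j (EtCoh.const Xc (ZMod m)) q).2
    exact finite_H_iso (EtCore.pullConst j (ZMod m)) q ‹_›
  · obtain ⟨hfin, hcl⟩ := SerreVanLib.proper_closed_finite k hdimc U.2.isClosed_compl fun h => by
      obtain ⟨y, hy⟩ := hUne
      exact (h.ge (Set.mem_univ y)) hy
    have hne : ((U : Set Xc)ᶜ).Nonempty := Set.nonempty_compl.2 hU
    haveI : Nonempty (U : Scheme.{u}) := hUne.to_subtype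
    obtain ⟨cU⟩ := CurveMuLib.pull_const_iso_mu k Xc U hm
    haveI : Finite (EtCoh.H (U : Scheme.{u}) ((EtCoh.pull U.ι).obj (EtCoh.const Xc (ZMod m))) q) := by
      interval_cases q
      · have hc : 0 < Nat.card ↥((U : Set Xc)ᶜ) := by
          haveI := hfin.to_subtype; haveI := hne.to_subtype
          exact Nat.card_pos
        obtain ⟨e⟩ := CurveMuLib.nonempty_H1_open k Xc hdimc hm (Nat.card ↥((U : Set Xc)ᶜ) - 1) U hfin (by omega)
        exact Finite.of_equiv _ e.toEquiv.symm
      · obtain ⟨s, hs⟩ := hne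
        haveI : Subsingleton ((EtCoh.HF (U : Scheme.{u}) 2).obj (EtCoh.mu (U : Scheme.{u}) m)) :=
          CurveH2Lib.subsingleton_H2_mu_open k Xc hdimc U (hcl s hs) hs hfin hcl m hm
        haveI : Finite ((EtCoh.HF (U : Scheme.{u}) 2).obj (EtCoh.mu (U : Scheme.{u}) m)) := Finite.of_subsingleton
        exact finite_H_iso cU.symm 2 ‹_›
    let i := j.isoOpensRange.hom
    haveI : Finite (EtCoh.H (U : Scheme.{u}) (EtCoh.const (U : Scheme.{u}) (ZMod m)) q) :=
      finite_H_iso (EtCore.pullConst U.ι (ZMod m)) q ‹_›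
    haveI : Finite (EtCoh.H Z ((EtCoh.pull i).obj (EtCoh.const (U : Scheme.{u}) (ZMod m))) q) :=
      Finite.of_surjective _ (Groth.Agent.S0642.result i (EtCoh.const (U : Scheme.{u}) (ZMod m)) q).2
    exact finite_H_iso (EtCore.pullConst i (ZMod m)) q ‹_›

theorem subsingleton_H_point {Z : Scheme.{u}} [IsIntegral Z] (g : Z ⟶ Spec (CommRingCat.of k))
    [LocallyOfFiniteType g] (hdim : topologicalKrullDim Z ≤ 0) (F : EtCoh.Ab Z) (q : ℕ) (hq : 1 ≤ q) :
    Subsingleton (EtCoh.H Z F q) := by
  have heq : ∀ z : Z, z = genericPoint Z := fun z => by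
    by_contra hne
    have h := (DimIneqLib.chainTo_zero (genericPoint Z)).step (genericPoint_specializes z) (Ne.symm hne)
    exact absurd (h.le_dim.trans hdim) (by norm_num)
  haveI : Subsingleton Z := ⟨fun a b => (heq a).trans (heq b).symm⟩
  haveI : IsAffine Z := by
    obtain ⟨_, ⟨U, hU, rfl⟩, hxU, -⟩ :=
      Z.isBasis_affineOpens.exists_subset_of_mem_open (Set.mem_univ (genericPoint Z)) isOpen_univ
    have hU' : IsAffineOpen (⊤ : Z.Opens) := by
      rwa [show (⊤ : Z.Opens) = U from (eq_top_iff.2 fun z _ => (heq z) ▸ hxU).symm]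
    haveI : IsAffine (⊤ : Z.Opens).toScheme := hU'
    exact IsAffine.of_isIso Z.topIso.inv
  refine Groth.Agent.S0088.result Z (fun s => ?_) (fun s => ?_) F q hq
  · rw [show ({s} : Set Z) = Set.univ from Set.eq_univ_of_forall fun z => Subsingleton.elim z s]
    exact isClosed_univ
  · exact SkySumLib.isSepClosed_residueField g s (by
      rw [show ({s} : Set Z) = Set.univ from Set.eq_univ_of_forall fun z => Subsingleton.elim z s]
      exact isClosed_univ)

theorem hypB (n : ℕ) (hn : (n : k) ≠ 0) : HypB k n := by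
  intro Z _ g _ _ _ hnor hdim M _ _ hM q
  rcases Nat.eq_zero_or_pos q with rfl | hq
  · exact finite_H0_const Z M
  by_cases h0 : topologicalKrullDim Z ≤ 0
  · haveI := subsingleton_H_point k g h0 (EtCoh.const Z M) q hq
    exact Finite.of_subsingleton
  have hn0 : 0 < n := Nat.pos_of_ne_zero fun e => hn (by rw [e, Nat.cast_zero])
  refine finite_const_of_cyclic hn0 q (fun m hm => finite_const_curve k g hnor ?_ m (fun e => hn ?_) q hq) M hM
  · refine le_antisymm hdim ?_
    revert h0
    rcases topologicalKrullDim Z with _ | _ | a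
    · exact fun h => absurd bot_le h
    · exact fun _ => le_top
    · intro h
      have ha : a ≠ 0 := fun e => h (by rw [e]; exact le_rfl)
      exact WithBot.coe_le_coe.2 ((Nat.cast_one (R := ℕ∞)).ge.trans (Nat.cast_le.2 (Nat.one_le_iff_ne_zero.2 ha)))
  · obtain ⟨c, rfl⟩ := hm
    rw [Nat.cast_mul, e, zero_mul]

end ConsFiniteLib

end
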