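import Groth.Agent.S0143
import Groth.Agent.S0131
import Groth.Agent.CovDevLib.Base
import Groth.Agent.CovDevLib.Lqf
import Groth.Agent.ConsEffaceLib.Main
import Groth.Agent.DevissLib.ClosedImm
import Groth.Agent.ModifLib.Norm
import Groth.Agent.DeltaBaseLib.Main
import Groth.Agent.NagataFG.Main
import Groth.Agent.AlgSpRegLib.DimMaps

/-!
# Dévissage of the finiteness of cohomology of constructible sheaves on curves
-/

set_option autoImplicit false
set_option linter.style.haveILetI false
set_option linter.unusedSectionVars false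
set_option backward.isDefEq.respectTransparency false
set_option backward.isDefEq.respectTransparency.types false
set_option synthInstance.maxHeartbeats 400000
set_option maxHeartbeats 1000000

universe u

open CategoryTheory CategoryTheory.Limits AlgebraicGeometry Opposite CategoryTheory.Abelian
open Groth.Agent Groth.Agent.EtShLib

noncomputable section

namespace ConsFiniteLib

/-- The cohomology of finite constant sheaves on normal curves is finite. -/
def HypB (k : Type u) [Field k] (n : ℕ) : Prop :=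
  ∀ (Z : Scheme.{u}) [IsIntegral Z] (g : Z ⟶ Spec (CommRingCat.of k)) [IsSeparated g] [LocallyOfFiniteType g]
    [QuasiCompact g], Pi1.IsNormalScheme Z → topologicalKrullDim Z ≤ 1 →
    ∀ (M : Type) [AddCommGroup M] [Finite M], (∀ m : M, n • m = 0) → ∀ q : ℕ,
      Finite (EtCoh.H Z (EtCoh.const Z M) q)

/-- The same, for the normal curves finite over a given scheme. -/
def HypOn (X : Scheme.{u}) (n : ℕ) : Prop :=
  ∀ (Z : Scheme.{u}) [IsIntegral Z] (f : Z ⟶ X) [IsFinite f], Pi1.IsNormalScheme Z → topologicalKrullDim Z ≤ 1 →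
    ∀ (M : Type) [AddCommGroup M] [Finite M], (∀ m : M, n • m = 0) → ∀ q : ℕ,
      Finite (EtCoh.H Z (EtCoh.const Z M) q)

variable {X : Scheme.{u}}

theorem killedBy_iff (n : ℕ) (F : EtCoh.Ab X) : EtCoh.KilledBy n F ↔ n • 𝟙 F = 0 := by
  constructor
  · intro h
    refine Sheaf.hom_ext (NatTrans.ext (funext fun U => ConcreteCategory.hom_ext _ _ fun s => ?_))
    rw [ConsEffaceLib.app_nsmul_id]
    exact h U.unop s
  · intro h U s
    rw [← ConsEffaceLib.app_nsmul_id, h]
    rfl

/-- Finiteness at the left of a short exact sequence. -/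
theorem finite_of_shortExact {S : ShortComplex (EtCoh.Ab X)} (hS : S.ShortExact) (q : ℕ)
    [Finite (EtCoh.H X S.X₂ (q + 1))] [Finite (EtCoh.H X S.X₃ q)] : Finite (EtCoh.H X S.X₁ (q + 1)) := by
  let a : EtCoh.H X S.X₁ (q + 1) →+ EtCoh.H X S.X₂ (q + 1) :=
    AddMonoidHom.mk' (fun x => x.comp (Ext.mk₀ S.f) (add_zero _)) fun x y => Ext.add_comp _ _ _ _
  let δ : EtCoh.H X S.X₃ q →+ EtCoh.H X S.X₁ (q + 1) :=
    AddMonoidHom.mk' (fun x => x.comp hS.extClass rfl) fun x y => Ext.add_comp _ _ _ _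
  have hk : a.ker ≤ δ.range := fun x hx => by
    obtain ⟨d, hd⟩ := Ext.covariant_sequence_exact₁ _ hS x hx rfl
    exact ⟨d, hd⟩
  haveI : Finite δ.range := Finite.of_surjective δ.rangeRestrict δ.rangeRestrict_surjective
  haveI : Finite a.ker := Finite.of_injective _ (AddSubgroup.inclusion_injective hk)
  haveI : Finite a.range := Subtype.finite
  haveI : Finite (EtCoh.H X S.X₁ (q + 1) ⧸ a.ker) :=
    Finite.of_equiv _ (QuotientAddGroup.quotientKerEquivRange a).toEquiv.symm
  exact Finite.of_equiv _ (AddSubgroup.addGroupEquivQuotientProdAddSubgroup (s := a.ker)).symm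

theorem finite_zero_of_mono {F G : EtCoh.Ab X} (u : F ⟶ G) [Mono u] [Finite (EtCoh.H X G 0)] :
    Finite (EtCoh.H X F 0) := by
  refine Finite.of_injective (fun x : EtCoh.H X F 0 => x.comp (Ext.mk₀ u) (add_zero _)) fun x y h => ?_
  obtain ⟨a, rfl⟩ := (Ext.mk₀_bijective _ _).2 x
  obtain ⟨b, rfl⟩ := (Ext.mk₀_bijective _ _).2 y
  simp only [Ext.mk₀_comp_mk₀] at h
  rw [(cancel_mono u).1 ((Ext.mk₀_bijective _ _).1 h)]

theorem finite_biproduct {m : ℕ} (G : Fin m → EtCoh.Ab X) (q : ℕ) (h : ∀ i, Finite (EtCoh.H X (G i) q)) :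
    Finite (EtCoh.H X (⨁ G) q) := by
  haveI := h
  refine Finite.of_injective
    (fun (x : EtCoh.H X (⨁ G) q) (i : Fin m) => x.comp (Ext.mk₀ (biproduct.π G i)) (add_zero _)) fun x y hxy => ?_
  have key : ∀ z : EtCoh.H X (⨁ G) q, z = ∑ i, (z.comp (Ext.mk₀ (biproduct.π G i)) (add_zero _)).comp
      (Ext.mk₀ (biproduct.ι G i)) (add_zero _) := fun z => by
    refine Eq.trans ?_ (Finset.sum_congr rfl fun i _ => (Ext.comp_assoc_of_second_deg_zero z _ _ _).symm)
    simp only [Ext.mk₀_comp_mk₀]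
    rw [← Ext.comp_sum, ← Ext.mk₀_sum, biproduct.total, Ext.comp_mk₀_id]
  rw [key x, key y]
  exact Finset.sum_congr rfl fun i _ => congrArg (fun z => Ext.comp z (Ext.mk₀ (biproduct.ι G i)) (add_zero q)) (congrFun hxy i)

/-- A finite family jointly surjective gives a monomorphism to the direct images. -/
theorem mono_lift_unit {m : ℕ} {Z : Fin m → Scheme.{u}} (f : ∀ i, Z i ⟶ X)
    (hf : ∀ x : X, ∃ i, x ∈ Set.range (f i).base) (F : EtCoh.Ab X) :
    Mono (biproduct.lift fun i => (EtCoh.pullPushAdj (f i)).unit.app F) := by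
  refine (mono_iff_stalks (A := AddCommGrpCat.{u + 1}) _).2 fun Ω _ _ ξ => ?_
  obtain ⟨i, a, ha⟩ := hf (ξ.base default)
  obtain ⟨Ω', _, _, t, ht⟩ := exists_geometric_pt a
  obtain ⟨e⟩ := nonempty_stk_iso_of_eq (A := AddCommGrpCat.{u + 1}) (ξ := t ≫ f i) (ξ' := ξ)
    (ha.symm.trans (congrArg (f i).base ht.symm))
  haveI : Mono ((stk (A := AddCommGrpCat.{u + 1}) (t ≫ f i)).map ((EtCoh.pullPushAdj (f i)).unit.app F)) :=
    (AddCommGrpCat.mono_iff_injective _).2 (ConsEmbedLib.injective_stk_unit (f i) t F)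
  haveI : Mono ((stk (A := AddCommGrpCat.{u + 1}) ξ).map ((EtCoh.pullPushAdj (f i)).unit.app F)) := by
    rw [show (stk (A := AddCommGrpCat.{u + 1}) ξ).map ((EtCoh.pullPushAdj (f i)).unit.app F) =
        e.inv.app _ ≫ (stk (A := AddCommGrpCat.{u + 1}) (t ≫ f i)).map ((EtCoh.pullPushAdj (f i)).unit.app F) ≫ e.hom.app _
      from (NatIso.naturality_1 e _).symm]
    infer_instance
  rw [← biproduct.lift_π (fun i => (EtCoh.pullPushAdj (f i)).unit.app F) i, Functor.map_comp] at this
  exact mono_of_mono _ ((stk (A := AddCommGrpCat.{u + 1}) ξ).map (biproduct.π _ i))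

variable (k : Type u) [Field k] {n : ℕ}

/-- Finitely many finite morphisms from normal integral schemes covering a scheme of finite type. -/
theorem exists_normal_cover (g : X ⟶ Spec (CommRingCat.of k)) [IsSeparated g] [LocallyOfFiniteType g] [QuasiCompact g]
    (hdim : topologicalKrullDim X ≤ 1) :
    ∃ (m : ℕ) (Z : Fin m → Scheme.{u}) (f : ∀ i, Z i ⟶ X), (∀ i, IsFinite (f i)) ∧
      (∀ i, IsIntegral (Z i)) ∧ (∀ i, Pi1.IsNormalScheme (Z i)) ∧ (∀ i, topologicalKrullDim (Z i) ≤ 1) ∧
      ∀ x : X, ∃ i, x ∈ Set.range (f i).base := by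
  haveI : IsLocallyNoetherian X := LocallyOfFiniteType.isLocallyNoetherian g
  haveI : CompactSpace X := QuasiCompact.compactSpace_of_compactSpace g
  haveI : IsNoetherian X := ⟨⟩
  haveI : Finite (irreducibleComponents X) := TopologicalSpace.NoetherianSpace.finite_irreducibleComponents.to_subtype
  obtain ⟨m, ⟨σ⟩⟩ := Finite.exists_equiv_fin (irreducibleComponents X)
  choose T i hi hT hr using fun c : irreducibleComponents X =>
    DevissLib.exists_integral_closed (isClosed_of_mem_irreducibleComponents c.1 c.2) c.2.1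
  let W : Fin m → Scheme.{u} := fun j => T (σ.symm j)
  haveI : ∀ j, IsIntegral (W j) := fun j => hT _
  haveI : ∀ j, IsClosedImmersion (i (σ.symm j)) := fun j => hi _
  haveI : ∀ j, IsLocallyNoetherian (W j) := fun j => LocallyOfFiniteType.isLocallyNoetherian (i (σ.symm j))
  haveI hq : ∀ j, QuasiCompact ((W j).fromSpecStalk (genericPoint (W j))) := fun j =>
    ⟨fun U _ _ => (Set.toFinite _).isCompact⟩
  haveI hqs : ∀ j, QuasiSeparated ((W j).fromSpecStalk (genericPoint (W j))) := fun j => inferInstance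
  have hfin : ∀ j, IsFinite (Curv2.normalizationι (W j)) := fun j => ModifLib.isFinite_normalizationι (W j)
    (ModifLib.isNagata_affineOpens (i (σ.symm j) ≫ g) fun U => by
      refine NagataFG.isNagata_of_surjective
        (((Spec (CommRingCat.of k)).presheaf.map (homOfLE (le_top : U.1 ≤ ⊤)).op).hom.comp
          (Scheme.ΓSpecIso (CommRingCat.of k)).inv.hom) ?_ (DeltaBaseLib.isNagata_of_field k)
      rcases (U.1 : Set (Spec (CommRingCat.of k))).eq_empty_or_nonempty with h | ⟨x, hx⟩
      · intro z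
        exact ⟨0, TopCat.Presheaf.section_ext (Spec (CommRingCat.of k)).sheaf U.1 _ _ fun w hw =>
          absurd hw ((Set.eq_empty_iff_forall_notMem.1 h) w)⟩
      · obtain ⟨U, hU⟩ := U
        obtain rfl : U = ⊤ := eq_top_iff.2 fun y _ => Subsingleton.elim (α := PrimeSpectrum k) x y ▸ hx
        intro z
        refine ⟨(Scheme.ΓSpecIso (CommRingCat.of k)).hom z, ?_⟩
        simp)
  haveI : ∀ j, IsFinite (Curv2.normalizationι (W j) ≫ i (σ.symm j)) := fun j => by
    haveI := hfin j; infer_instance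
  refine ⟨m, fun j => Curv2.normalization (W j), fun j => Curv2.normalizationι (W j) ≫ i (σ.symm j),
    fun j => inferInstance, fun j => inferInstance, fun j => LocFFLib.normalization_isNormal _, fun j => ?_, fun x => ?_⟩
  · refine le_trans ?_ hdim
    exact AlgSpRegLib.topDim_le_of_lqf (Curv2.normalizationι (W j) ≫ i (σ.symm j))
  · let c : irreducibleComponents X := ⟨irreducibleComponent x, irreducibleComponent_mem_irreducibleComponents x⟩
    obtain ⟨y, hy⟩ : x ∈ Set.range (i c).base := (hr c).ge mem_irreducibleComponent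
    refine ⟨σ c, ?_⟩
    show x ∈ Set.range (Curv2.normalizationι (W (σ c)) ≫ i (σ.symm (σ c))).base
    haveI := hfin (σ c)
    have hs : Function.Surjective (Curv2.normalizationι (W (σ c))).base := by
      have hη : genericPoint (W (σ c)) ∈ Set.range (Curv2.normalizationι (W (σ c))).base := by
        obtain ⟨q, hq⟩ : genericPoint (W (σ c)) ∈ Set.range ((W (σ c)).fromSpecStalk (genericPoint (W (σ c)))).base := by
          rw [Scheme.range_fromSpecStalk]; exact specializes_rfl
        rw [← ((W (σ c)).fromSpecStalk (genericPoint (W (σ c)))).toNormalization_fromNormalization] at hq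
        exact ⟨_, hq⟩
      refine Set.range_eq_univ.1 (Set.eq_univ_of_forall fun z => ?_)
      exact ((genericPoint_spec (W (σ c))).specializes trivial).mem_closed
        (Curv2.normalizationι (W (σ c))).isClosedMap.isClosed_range hη
    obtain ⟨z, hz⟩ : x ∈ Set.range (i (σ.symm (σ c))).base := by
      rw [σ.symm_apply_apply]; exact ⟨y, hy⟩
    obtain ⟨w, rfl⟩ := hs z
    exact ⟨w, hz⟩

/-- Constant sheaves have kernels computed on the coefficients. -/
theorem exists_factor_killed (Z : Scheme.{u}) (M : Type) [AddCommGroup M] (n : ℕ) {G : EtCoh.Ab Z}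
    (ψ : G ⟶ EtCoh.const Z M) (hψ : n • ψ = 0) :
    ∃ (φ : G ⟶ EtCoh.const Z (nsmulAddMonoidHom (α := M) n).ker)
      (j : EtCoh.const Z (nsmulAddMonoidHom (α := M) n).ker ⟶ EtCoh.const Z M), φ ≫ j = ψ := by
  let T := constantSheaf Z.smallEtaleTopology AddCommGrpCat.{u + 1}
  let A := AddCommGrpCat.of (ULift.{u + 1} M)
  let K := AddCommGrpCat.of (ULift.{u + 1} (nsmulAddMonoidHom (α := M) n).ker)
  let ι : K ⟶ A := AddCommGrpCat.ofHom (AddMonoidHom.mk' (fun x => ULift.up (x.down : M)) fun _ _ => rfl)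
  haveI : PreservesFiniteLimits T := by
    dsimp only [T, constantSheaf]
    infer_instance
  haveI : T.Additive := Functor.additive_of_preserves_binary_products T
  have hev : ∀ x : A, (n • 𝟙 A) x = n • x := fun x => by
    show AddCommGrpCat.homAddEquiv (n • 𝟙 A) x = _
    rw [map_nsmul, AddMonoidHom.nsmul_apply]
    rfl
  let S : ShortComplex AddCommGrpCat.{u + 1} := ShortComplex.mk ι (n • 𝟙 A) (by
    refine ConcreteCategory.hom_ext _ _ fun x => ?_
    rw [ConcreteCategory.comp_apply, hev]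
    exact ULift.ext _ _ x.down.2)
  haveI : Mono ι := (AddCommGrpCat.mono_iff_injective _).2 fun x y h =>
    ULift.ext _ _ (Subtype.ext (congrArg ULift.down h :))
  have hS : S.Exact := (ShortComplex.ab_exact_iff _).2 fun x hx =>
    ⟨ULift.up ⟨x.down, congrArg ULift.down ((hev x).symm.trans hx)⟩, rfl⟩
  have hT := hS.map_of_mono_of_preservesKernel T inferInstance inferInstance
  haveI : Mono (S.map T).f := T.map_mono _
  refine ⟨hT.lift ψ ?_, (S.map T).f, hT.lift_f _ _⟩
  show ψ ≫ T.map (n • 𝟙 A) = 0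
  rw [Functor.map_nsmul, CategoryTheory.Functor.map_id, Preadditive.comp_nsmul]
  exact (congrArg (n • ·) (Category.comp_id ψ)).trans hψ

/-- Embedding in direct images of constant sheaves killed by `n` on normal curves. -/
theorem exists_embed_normal (g : X ⟶ Spec (CommRingCat.of k)) [IsSeparated g] [LocallyOfFiniteType g] [QuasiCompact g]
    (hdim : topologicalKrullDim X ≤ 1) {F : EtCoh.Ab X} (hF : EtPBC.IsConstructible F) (hn : n • 𝟙 F = 0) :
    ∃ (m : ℕ) (Z : Fin m → Scheme.{u}) (f : ∀ i, Z i ⟶ X) (_ : ∀ i, IsFinite (f i)) (_ : ∀ i, IsIntegral (Z i))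
      (M : Fin m → Type) (_ : ∀ i, AddCommGroup (M i)) (_ : ∀ i, Finite (M i))
      (ι : F ⟶ ⨁ fun i => (EtCoh.push (f i)).obj (EtCoh.const (Z i) (M i))), Mono ι ∧
      (∀ i, Pi1.IsNormalScheme (Z i) ∧ topologicalKrullDim (Z i) ≤ 1 ∧ ∀ x : M i, n • x = 0) := by
  haveI : IsLocallyNoetherian X := LocallyOfFiniteType.isLocallyNoetherian g
  haveI : CompactSpace X := QuasiCompact.compactSpace_of_compactSpace g
  haveI : QuasiSeparatedSpace X := quasiSeparatedSpace_of_quasiSeparated g
  obtain ⟨a, Y, p, hp, hpf, M, iM, fM, ι, hι⟩ := ConsEmbedLib.exists_embed hF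
  haveI := hp
  choose b Z f hf hZ hnor hd hcov using fun i => exists_normal_cover k (p i ≫ g)
    ((AlgSpRegLib.topDim_le_of_lqf (p i)).trans hdim)
  haveI := hf
  haveI := hZ
  let J := Σ i : Fin a, Fin (b i)
  let e : Fin (Fintype.card J) ≃ J := (Fintype.equivFin J).symm
  let G : J → EtCoh.Ab X := fun s => (EtCoh.push (f s.1 s.2 ≫ p s.1)).obj
    (EtCoh.const (Z s.1 s.2) (nsmulAddMonoidHom (α := M s.1) n).ker)
  haveI : ∀ i, (EtCoh.push (p i)).Additive := fun _ => { }
  haveI : ∀ (s : J), (EtCoh.pull (f s.1 s.2 ≫ p s.1)).Additive := fun s =>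
    (EtCoh.pullPushAdj (f s.1 s.2 ≫ p s.1)).left_adjoint_additive
  -- components
  let θ : ∀ i, (EtCoh.push (p i)).obj (EtCoh.const (Y i) (M i)) ⟶
      ⨁ fun j => (EtCoh.push (f i j ≫ p i)).obj (EtCoh.const (Z i j) (M i)) := fun i => biproduct.lift fun j =>
    (EtCoh.push (p i)).map ((EtCoh.pullPushAdj (f i j)).unit.app _ ≫
      (EtCoh.push (f i j)).map (EtCore.pullConst (f i j) (M i)).hom) ≫
      (EtCoh.pushComp (p i) (f i j)).hom.app _
  have hθ : ∀ i, Mono (θ i) := fun i => by
    refine Preadditive.mono_of_cancel_zero _ fun {T} v hv => ?_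
    apply ((EtCoh.pullPushAdj (p i)).homEquiv _ _).symm.injective
    haveI : (EtCoh.pull (p i)).Additive := (EtCoh.pullPushAdj (p i)).left_adjoint_additive
    rw [Adjunction.homEquiv_counit, Adjunction.homEquiv_counit, Functor.map_zero, zero_comp]
    haveI := mono_lift_unit (f i) (hcov i) (EtCoh.const (Y i) (M i))
    rw [← cancel_mono (biproduct.lift fun j => (EtCoh.pullPushAdj (f i j)).unit.app (EtCoh.const (Y i) (M i))), zero_comp]
    refine biproduct.hom_ext _ _ fun j => ?_
    rw [zero_comp, Category.assoc, biproduct.lift_π, Category.assoc]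
    have h1 := congrArg (· ≫ biproduct.π _ j) hv
    simp only [θ, Category.assoc, biproduct.lift_π, zero_comp] at h1
    rw [← Category.assoc, Preadditive.IsIso.comp_right_eq_zero, Functor.map_comp, ← Category.assoc,
      Preadditive.IsIso.comp_right_eq_zero] at h1
    have h3 := (EtCoh.pullPushAdj (p i)).counit.naturality ((EtCoh.pullPushAdj (f i j)).unit.app (EtCoh.const (Y i) (M i)))
    simp only [Functor.comp_map, Functor.id_map] at h3
    refine (congrArg (fun t => (EtCoh.pull (p i)).map v ≫ t) h3.symm).trans ?_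
    rw [← Category.assoc, ← Functor.map_comp]
    refine (congrArg (fun t => (EtCoh.pull (p i)).map t ≫ _) h1).trans ?_
    rw [Functor.map_zero, zero_comp]
  let ψ : ∀ s : J, F ⟶ (EtCoh.push (f s.1 s.2 ≫ p s.1)).obj (EtCoh.const (Z s.1 s.2) (M s.1)) := fun s =>
    ι ≫ biproduct.π _ s.1 ≫ θ s.1 ≫ biproduct.π _ s.2
  have hlift : ∀ s : J, ∃ (u : F ⟶ G s) (w : G s ⟶ _), u ≫ w = ψ s := fun s => by
    let adj := EtCoh.pullPushAdj (f s.1 s.2 ≫ p s.1)
    obtain ⟨φ, j, hφ⟩ := exists_factor_killed (Z s.1 s.2) (M s.1) n ((adj.homEquiv _ _).symm (ψ s)) (by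
      rw [Adjunction.homEquiv_counit, ← Preadditive.nsmul_comp, ← Functor.map_nsmul,
        show n • ψ s = (n • 𝟙 F) ≫ ψ s by rw [Preadditive.nsmul_comp, Category.id_comp], hn, zero_comp,
        Functor.map_zero, zero_comp])
    refine ⟨adj.homEquiv _ _ φ, (EtCoh.push (f s.1 s.2 ≫ p s.1)).map j, ?_⟩
    rw [← Adjunction.homEquiv_naturality_right, hφ, Equiv.apply_symm_apply]
  choose u w huw using hlift
  haveI : ∀ s : J, IsFinite (f s.1 s.2 ≫ p s.1) := fun s => inferInstance
  refine ⟨Fintype.card J, fun i => Z (e i).1 (e i).2, fun i => f (e i).1 (e i).2 ≫ p (e i).1, fun i => inferInstance,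
    fun i => inferInstance, fun i => (nsmulAddMonoidHom (α := M (e i).1) n).ker, fun i => inferInstance,
    fun i => inferInstance, biproduct.lift fun i => u (e i), ?_, fun i => ⟨hnor _ _, hd _ _, fun x => Subtype.ext x.2⟩⟩
  refine Preadditive.mono_of_cancel_zero _ fun {T} v hv => ?_
  rw [← cancel_mono ι, zero_comp]
  refine biproduct.hom_ext _ _ fun i => ?_
  haveI := hθ i
  rw [zero_comp, ← cancel_mono (θ i), zero_comp]
  refine biproduct.hom_ext _ _ fun j => ?_
  have h1 := congrArg (· ≫ biproduct.π _ (e.symm ⟨i, j⟩)) hv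
  simp only [Category.assoc, biproduct.lift_π, zero_comp] at h1
  have h2 : v ≫ u ⟨i, j⟩ = 0 := by
    have key : ∀ s, s = (⟨i, j⟩ : J) → v ≫ u s = 0 → v ≫ u ⟨i, j⟩ = 0 := by rintro s rfl h; exact h
    exact key _ (e.apply_symm_apply _) h1
  simp only [Category.assoc, zero_comp]
  show v ≫ ψ ⟨i, j⟩ = 0
  rw [← huw, ← Category.assoc, h2, zero_comp]

/-- Dévissage. -/
theorem finite_H_of_hypOn {X : Scheme.{u}} (g : X ⟶ Spec (CommRingCat.of k)) [IsSeparated g] [LocallyOfFiniteType g]
    [QuasiCompact g] (hdim : topologicalKrullDim X ≤ 1) (hB : HypOn X n) (hn : 0 < n) :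
    ∀ (q : ℕ) (F : EtCoh.Ab X) (_ : EtPBC.IsConstructible F) (_ : n • 𝟙 F = 0), Finite (EtCoh.H X F q) := by
  have key : ∀ (q : ℕ) {m : ℕ} (Z : Fin m → Scheme.{u}) (f : ∀ i, Z i ⟶ X) [∀ i, IsFinite (f i)]
      [∀ i, IsIntegral (Z i)] (M : Fin m → Type) [∀ i, AddCommGroup (M i)] [∀ i, Finite (M i)],
      (∀ i, Pi1.IsNormalScheme (Z i) ∧ topologicalKrullDim (Z i) ≤ 1 ∧ ∀ x : M i, n • x = 0) →
      Finite (EtCoh.H X (⨁ fun i => (EtCoh.push (f i)).obj (EtCoh.const (Z i) (M i))) q) := by
    intro q m Z f _ _ M _ _ hZ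
    refine finite_biproduct _ q fun i => ?_
    haveI := hB (Z i) (f i) (hZ i).1 (hZ i).2.1 (M i) (hZ i).2.2 q
    exact Finite.of_injective _ (CovDevLib.bijective_mu (p := f i) (EtCoh.const (Z i) (M i)) q).1
  intro q
  induction q with
  | zero =>
    intro F hF hn'
    obtain ⟨m, Z, f, hf, hZ, M, iM, fM, ι, hι, hh⟩ := exists_embed_normal k g hdim hF hn'
    haveI := key 0 Z f M hh
    exact finite_zero_of_mono ι
  | succ q ih =>
    intro F hF hn'
    obtain ⟨m, Z, f, hf, hZ, M, iM, fM, ι, hι, hh⟩ := exists_embed_normal k g hdim hF hn'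
    haveI := key (q + 1) Z f M hh
    let G := ⨁ fun i => (EtCoh.push (f i)).obj (EtCoh.const (Z i) (M i))
    haveI : IsLocallyNoetherian X := LocallyOfFiniteType.isLocallyNoetherian g
    haveI : CompactSpace X := QuasiCompact.compactSpace_of_compactSpace g
    haveI : QuasiSeparatedSpace X := quasiSeparatedSpace_of_quasiSeparated g
    have hG : EtPBC.IsConstructible G := by
      refine (isConstructible_iff _).2 (isCons_biproduct _ fun i => (isConstructible_iff _).1 ?_)
      haveI : LocallyOfFinitePresentation (f i) := LocallyOfFinitePresentation.iff_locallyOfFiniteType.2 inferInstance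
      haveI : CompactSpace (Z i) := QuasiCompact.compactSpace_of_compactSpace (f i)
      haveI : QuasiSeparatedSpace (Z i) := quasiSeparatedSpace_of_quasiSeparated (f i)
      haveI : Finite (AddCommGrpCat.of (ULift.{u + 1} (M i))) := inferInstanceAs (Finite (ULift.{u + 1} (M i)))
      exact Groth.Agent.S0137.result (f i) _ ((isConstructible_iff _).2 (isCons_const _))
    have hGn : n • 𝟙 G = 0 := by
      refine biproduct.hom_ext' _ _ fun i => ?_
      rw [comp_zero, Preadditive.comp_nsmul, ← Category.id_comp (biproduct.ι _ i ≫ 𝟙 G), ← Preadditive.nsmul_comp]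
      haveI : (EtCoh.push (f i)).Additive := { }
      haveI : (EtCore.gsec (Z i)).Additive := ⟨fun {X Y f g} => rfl⟩
      haveI : (constantSheaf (Z i).smallEtaleTopology AddCommGrpCat.{u + 1}).Additive :=
        (EtCore.constAdj (Z i)).left_adjoint_additive
      have h0 : n • 𝟙 (AddCommGrpCat.of (ULift.{u + 1} (M i))) = 0 := ConcreteCategory.hom_ext _ _ fun x => by
        show AddCommGrpCat.homAddEquiv (n • 𝟙 _) x = _
        rw [map_nsmul, AddMonoidHom.nsmul_apply]
        exact ULift.ext _ _ ((hh i).2.2 x.down)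
      rw [← CategoryTheory.Functor.map_id (EtCoh.push (f i)), ← CategoryTheory.Functor.map_id (constantSheaf _ _),
        ← Functor.map_nsmul, ← Functor.map_nsmul, h0, Functor.map_zero, Functor.map_zero, zero_comp]
    have hQ : EtPBC.IsConstructible (cokernel ι) :=
      (Groth.Agent.S0131.result ι n hn ((killedBy_iff n F).2 hn') ((killedBy_iff n G).2 hGn) hF hG).2
    have hQn : n • 𝟙 (cokernel ι) = 0 := by
      rw [← cancel_epi (cokernel.π ι), comp_zero, Preadditive.comp_nsmul, Category.comp_id,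
        ← Category.id_comp (cokernel.π ι), ← Preadditive.nsmul_comp, hGn, zero_comp]
    haveI := ih (cokernel ι) hQ hQn
    let S := ShortComplex.mk ι (cokernel.π ι) (cokernel.condition ι)
    haveI : Finite (EtCoh.H X S.X₂ (q + 1)) := ‹Finite (EtCoh.H X G (q + 1))›
    haveI : Finite (EtCoh.H X S.X₃ q) := ‹Finite (EtCoh.H X (cokernel ι) q)›
    exact finite_of_shortExact (S := S)
      ⟨ShortComplex.exact_of_g_is_cokernel S (cokernelIsCokernel ι)⟩ q

theorem finite_H (hB : HypB k n) (hn : 0 < n) (q : ℕ) {X : Scheme.{u}} (g : X ⟶ Spec (CommRingCat.of k))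
    [IsSeparated g] [LocallyOfFiniteType g] [QuasiCompact g] (hdim : topologicalKrullDim X ≤ 1) (F : EtCoh.Ab X)
    (hF : EtPBC.IsConstructible F) (hF' : n • 𝟙 F = 0) : Finite (EtCoh.H X F q) :=
  finite_H_of_hypOn k g hdim (fun Z _ f _ hnor hd M _ _ hM q => hB Z (f ≫ g) hnor hd M hM q) hn q F hF hF'

end ConsFiniteLib

end
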