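import Groth.Agent.ConsFiniteLib.Base
import Groth.Agent.AsCohLib.Main

/-!
# Finiteness for proper curves, all torsion
-/

set_option autoImplicit false
set_option linter.style.haveILetI false
set_option linter.unusedSectionVars false
set_option backward.isDefEq.respectTransparency false
set_option backward.isDefEq.respectTransparency.types false
set_option synthInstance.maxHeartbeats 400000
set_option maxHeartbeats 1000000

universe u

open CategoryTheory CategoryTheory.Limits AlgebraicGeometry Opposite CategoryTheory.Abelian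
open Groth.Agent Groth.Agent.EtShLib

noncomputable section

namespace ConsFiniteLib

theorem finite_middle {X : Scheme.{u}} {S : ShortComplex (EtCoh.Ab X)} (hS : S.ShortExact) (q : ℕ)
    [Finite (EtCoh.H X S.X₁ q)] [Finite (EtCoh.H X S.X₃ q)] : Finite (EtCoh.H X S.X₂ q) := by
  let a : EtCoh.H X S.X₂ q →+ EtCoh.H X S.X₃ q :=
    AddMonoidHom.mk' (fun x => x.comp (Ext.mk₀ S.g) (add_zero _)) fun x y => Ext.add_comp _ _ _ _
  let b : EtCoh.H X S.X₁ q →+ EtCoh.H X S.X₂ q :=
    AddMonoidHom.mk' (fun x => x.comp (Ext.mk₀ S.f) (add_zero _)) fun x y => Ext.add_comp _ _ _ _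
  have hk : a.ker ≤ b.range := fun x hx => Ext.covariant_sequence_exact₂ _ hS x hx
  haveI : Finite b.range := Finite.of_surjective b.rangeRestrict b.rangeRestrict_surjective
  haveI : Finite a.ker := Finite.of_injective _ (AddSubgroup.inclusion_injective hk)
  haveI : Finite a.range := Subtype.finite
  haveI : Finite (EtCoh.H X S.X₂ q ⧸ a.ker) :=
    Finite.of_equiv _ (QuotientAddGroup.quotientKerEquivRange a).toEquiv.symm
  exact Finite.of_equiv _ (AddSubgroup.addGroupEquivQuotientProdAddSubgroup (s := a.ker)).symm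

theorem finite_const_dévissage {Z : Scheme.{u}} (q : ℕ)
    (h0 : ∀ p : ℕ, p.Prime → Finite (EtCoh.H Z (EtCoh.const Z (ZMod p)) q))
    (h1 : Finite (EtCoh.H Z (EtCoh.const Z (ZMod 1)) q)) :
    ∀ m : ℕ, 0 < m → Finite (EtCoh.H Z (EtCoh.const Z (ZMod m)) q) := by
  intro m
  induction m using Nat.strong_induction_on with
  | _ m ih =>
    intro hm
    by_cases hm1 : m = 1
    · subst hm1; exact h1
    obtain ⟨p, hp, c, rfl⟩ := Nat.exists_prime_and_dvd hm1
    have hc : 0 < c := Nat.pos_of_ne_zero fun e => by rw [e, mul_zero] at hm; exact lt_irrefl _ hm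
    haveI := ih c (by nlinarith [hp.two_le]) hc
    haveI := h0 p hp
    let T := constantSheaf Z.smallEtaleTopology AddCommGrpCat.{u + 1}
    haveI : PreservesFiniteLimits T := by
      dsimp only [T, constantSheaf]
      infer_instance
    haveI : T.Additive := Functor.additive_of_preserves_binary_products T
    haveI : PreservesFiniteColimits T :=
      haveI : PreservesColimitsOfSize.{0, 0} T := (EtCore.constAdj Z).leftAdjoint_preservesColimits
      PreservesColimitsOfSize.preservesFiniteColimits _
    let i : ZMod c →+ ZMod (p * c) := ZMod.lift c ⟨zmultiplesHom (ZMod (p * c)) (p : ZMod (p * c)), by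
      show ((c : ℤ) • (p : ZMod (p * c))) = 0
      rw [natCast_zsmul, nsmul_eq_mul, ← Nat.cast_mul, mul_comm c p, ZMod.natCast_self]⟩
    let g : ZMod (p * c) →+ ZMod p := (ZMod.castHom (dvd_mul_right p c) (ZMod p)).toAddMonoidHom
    haveI : NeZero c := ⟨hc.ne'⟩
    haveI : NeZero (p * c) := ⟨hm.ne'⟩
    have hi : ∀ a : ℕ, i (a : ZMod c) = ((p * a : ℕ) : ZMod (p * c)) := fun a => by
      show ZMod.lift c _ ((a : ℕ) : ZMod c) = _
      rw [← Int.cast_natCast (R := ZMod c) a, ZMod.lift_coe]
      show (a : ℤ) • (p : ZMod (p * c)) = _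
      rw [natCast_zsmul, nsmul_eq_mul, ← Nat.cast_mul, mul_comm a p]
    let up : ∀ {A B : Type} [AddCommGroup A] [AddCommGroup B], (A →+ B) →
        (AddCommGrpCat.of (ULift.{u + 1} A) ⟶ AddCommGrpCat.of (ULift.{u + 1} B)) := fun f =>
      AddCommGrpCat.ofHom (AddMonoidHom.mk' (fun x => ULift.up (f x.down)) fun x y => ULift.ext _ _ (map_add f _ _))
    let S : ShortComplex AddCommGrpCat.{u + 1} := ShortComplex.mk (up i) (up g) (by
      refine ConcreteCategory.hom_ext _ _ fun x => ULift.ext _ _ ?_
      obtain ⟨a, ha⟩ := ZMod.natCast_zmod_surjective x.down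
      show g (i x.down) = 0
      rw [← ha, hi]
      show ZMod.castHom (dvd_mul_right p c) (ZMod p) ((p * a : ℕ) : ZMod (p * c)) = 0
      rw [map_natCast, Nat.cast_mul, ZMod.natCast_self, zero_mul])
    have hS : S.ShortExact :=
      { exact := (ShortComplex.ab_exact_iff _).2 fun x hx => by
          obtain ⟨a, ha⟩ := ZMod.natCast_zmod_surjective x.down
          have h : ZMod.castHom (dvd_mul_right p c) (ZMod p) ((a : ℕ) : ZMod (p * c)) = 0 := by
            rw [ha]; exact congrArg ULift.down hx
          rw [map_natCast, ZMod.natCast_eq_zero_iff] at h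
          obtain ⟨b, rfl⟩ := h
          exact ⟨ULift.up (b : ZMod c), ULift.ext _ _ ((hi b).trans ha)⟩
        mono_f := (AddCommGrpCat.mono_iff_injective _).2 fun x y h => ULift.ext _ _ (by
          obtain ⟨a, ha⟩ := ZMod.natCast_zmod_surjective x.down
          obtain ⟨b, hb⟩ := ZMod.natCast_zmod_surjective y.down
          have h' : i x.down = i y.down := congrArg ULift.down h
          rw [← ha, ← hb, hi, hi, ZMod.natCast_eq_natCast_iff'] at h'
          rw [Nat.mul_mod_mul_left, Nat.mul_mod_mul_left] at h'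
          rw [← ha, ← hb, ZMod.natCast_eq_natCast_iff']
          exact Nat.eq_of_mul_eq_mul_left hp.pos h')
        epi_g := (AddCommGrpCat.epi_iff_surjective _).2 fun y => by
          obtain ⟨z, hz⟩ := ZMod.castHom_surjective (dvd_mul_right p c) y.down
          exact ⟨ULift.up z, ULift.ext _ _ hz⟩ }
    haveI : Finite (EtCoh.H Z (S.map T).X₁ q) := ‹Finite (EtCoh.H Z (EtCoh.const Z (ZMod c)) q)›
    haveI : Finite (EtCoh.H Z (S.map T).X₃ q) := ‹Finite (EtCoh.H Z (EtCoh.const Z (ZMod p)) q)›
    exact finite_middle (hS.map_of_exact T) q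

variable (k : Type u) [Field k] [IsAlgClosed k]

theorem hypOn_proper {X : Scheme.{u}} (g : X ⟶ Spec (CommRingCat.of k)) [IsProper g] (n : ℕ) (hn : 0 < n) :
    HypOn X n := by
  intro Z _ f _ hnor hdim M _ _ hM q
  refine finite_const_of_cyclic hn q (fun m hm => ?_) M hM
  have hm0 : 0 < m := Nat.pos_of_ne_zero fun e => by rw [e, zero_dvd_iff] at hm; omega
  refine finite_const_dévissage q (fun p hp => ?_) ?_ m hm0
  · haveI := Fact.mk hp
    by_cases hpk : (p : k) = 0
    · haveI : CharP k p := (CharP.ringChar_of_prime_eq_zero hp hpk) ▸ ringChar.charP k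
      exact AsCohLib.finite_H p (f ≫ g) q
    · exact hypB k p hpk Z (f ≫ g) hnor hdim (ZMod p) (fun x => by rw [nsmul_eq_mul, ZMod.natCast_self, zero_mul]) q
  · exact hypB k 1 (by rw [Nat.cast_one]; exact one_ne_zero) Z (f ≫ g) hnor hdim (ZMod 1) (fun x => Subsingleton.elim _ _) q

end ConsFiniteLib

end
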